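import Cfsg.Agent.H80.Fpf.Loc
import Cfsg.Agent.H80.Fpf.Mult
import Cfsg.Agent.H233.Opp

/-!
# Abelian radical subgroups exclude the primes dividing the order of the normaliser
-/

set_option autoImplicit false

namespace Cfsg.Agent.H111.Fpf

open Cfsg Cfsg.Agent.BpLieP.Big Cfsg.Agent.H80.Fpf Cfsg.Agent.H233.Opp

universe v

/-- `V` is abelian and the largest normal `l`-subgroup of its normaliser, which has characteristic `l`. -/
theorem not_may_of_rad {S : Type v} [Group S] [Finite S] [IsSimpleGroup S] {r l m : ℕ} (hr : r.Prime)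
    (hr2 : r ≠ 2) (hl : l.Prime) (hlr : l ≠ r) (hm : MultDvd S m) (hlm : ¬ l ∣ m) (hloc : LocChar l S)
    {V : Subgroup S} (hV : Rad l V) (hV1 : V ≠ ⊥) (hVc : ∀ a ∈ V, ∀ b ∈ V, a * b = b * a)
    (hd : r ∣ Nat.card (Subgroup.normalizer (V : Set S))) : ¬ May r S := by
  have : Fact r.Prime := ⟨hr⟩
  have : Fact l.Prime := ⟨hl⟩
  obtain ⟨x, hx⟩ := exists_prime_orderOf_dvd_card' r hd
  have hxo : orderOf (x : S) = r := by rw [Subgroup.orderOf_coe, hx]
  have hxV : ∀ k ∈ V, (x : S) * k * (x : S)⁻¹ ∈ V := fun k hk => (Subgroup.mem_normalizer_iff.1 x.2 k).1 hk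
  by_cases hc : ∀ k ∈ V, (x : S) * k = k * x
  · exfalso
    let N : Subgroup S := Subgroup.normalizer (V : Set S)
    let P : Subgroup N := pCore l N
    have hP : IsPGroup l P := Cfsg.Agent.Lib.Cores.pCore_isPGroup l
    have hPn : P.Normal := inferInstance
    have hQV : P.map N.subtype ≤ V := by
      refine hV.2 _ (hP.map _) ?_ ?_
      · rintro _ ⟨y, _, rfl⟩
        exact y.2
      · intro g hg
        rw [Subgroup.mem_normalizer_iff]
        intro n
        constructor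
        · rintro ⟨y, hy, rfl⟩
          exact ⟨(⟨g, hg⟩ : N) * y * (⟨g, hg⟩ : N)⁻¹, hPn.conj_mem y hy _, rfl⟩
        · rintro ⟨y, hy, hy'⟩
          refine ⟨(⟨g, hg⟩ : N)⁻¹ * y * (⟨g, hg⟩ : N), ?_, ?_⟩
          · have := hPn.conj_mem y hy (⟨g, hg⟩ : N)⁻¹
            rwa [inv_inv] at this
          · have h1 : (y : S) = g * n * g⁻¹ := hy'
            show g⁻¹ * (y : S) * g = n
            rw [h1]
            group
    have h2 : x ∈ Subgroup.centralizer (P : Set N) := by
      rw [Subgroup.mem_centralizer_iff]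
      intro y hy
      apply Subtype.ext
      exact (hc y (hQV ⟨y, hy, rfl⟩)).symm
    have h3 : x ∈ P := hloc V hV.1 hV1 h2
    obtain ⟨k, hk⟩ := hP ⟨_, h3⟩
    have h4 : x ^ l ^ k = 1 := congrArg (fun z : P => (z : N)) hk
    have h5 : r ∣ l ^ k := by rw [← hx]; exact orderOf_dvd_of_pow_eq_one h4
    exact hlr ((Nat.prime_dvd_prime_iff_eq hr hl).1 (hr.dvd_of_dvd_pow h5)).symm
  · push Not at hc
    obtain ⟨k, hk, hne⟩ := hc
    exact not_may_of_act_abelian hr hr2 hl hm hlm hV.1 hVc hxo hxV hk hne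

end Cfsg.Agent.H111.Fpf
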