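import Cfsg.Agent.H134.StrP.ExcTwo
import Cfsg.Agent.H378.ExcAdj

/-!
# The parabolic subgroup of type `E₆` and the one of type `A₆` in `E₇(q)`: prime divisors of the orders
-/

set_option autoImplicit false
set_option linter.unusedSectionVars false

namespace Cfsg.Agent.H111.Fpf.SevenPar

open Cfsg CoxeterSystem Cfsg.Agent.ChevalleyStructure.CoxeterGeom Cfsg.Agent.Tits.Roots Cfsg.Agent.Tits.Core
  Cfsg.Agent.Nodes.Reps Cfsg.Agent.Nodes.BNOf Cfsg.Agent.Nodes.StabComb Cfsg.Agent.Nodes.LeviDec Cfsg.Agent.H35.ExcIdx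
  Cfsg.Agent.H134.StrP Cfsg.Agent.ChevalleyStructure Cfsg.Agent.ChevalleyStructure.CoxeterGeomTypes
  Cfsg.Agent.Nodes.RGDChev Cfsg.Lie Cfsg.Agent.H378.ExcAdj Cfsg.Agent.H378

universe u

/-- the orbit of the 27 weights -/
def tabA : List ((Fin 7 → ℤ) × ℕ) :=
  [(![0, 0, 0, 0, 0, 1, 0], 0), (![0, 0, 0, 0, 1, -1, 1], 1), (![0, 0, 0, 1, -1, 0, 1], 2), (
    ![0, 1, 1, -1, 0, 0, 1], 3), (![0, -1, 1, 0, 0, 0, 1], 4), (![1, 1, -1, 0, 0, 0, 1], 4), (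
    ![1, -1, -1, 1, 0, 0, 1], 5), (![-1, 1, 0, 0, 0, 0, 1], 5), (![-1, -1, 0, 1, 0, 0, 1], 6), (
    ![1, 0, 0, -1, 1, 0, 1], 6), (![-1, 0, 1, -1, 1, 0, 1], 7), (![1, 0, 0, 0, -1, 1, 1], 7), (
    ![0, 0, -1, 0, 1, 0, 1], 8), (![-1, 0, 1, 0, -1, 1, 1], 8), (![1, 0, 0, 0, 0, -1, 2], 8), (
    ![0, 0, -1, 1, -1, 1, 1], 9), (![-1, 0, 1, 0, 0, -1, 2], 9), (![0, 1, 0, -1, 0, 1, 1], 10), (
    ![0, 0, -1, 1, 0, -1, 2], 10), (![0, -1, 0, 0, 0, 1, 1], 11), (![0, 1, 0, -1, 1, -1, 2], 11), (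
    ![0, -1, 0, 0, 1, -1, 2], 12), (![0, 1, 0, 0, -1, 0, 2], 12), (![0, -1, 0, 1, -1, 0, 2], 13), (
    ![0, 0, 1, -1, 0, 0, 2], 14), (![1, 0, -1, 0, 0, 0, 2], 15), (![-1, 0, 0, 0, 0, 0, 2], 16)]

/-- the orbit of the 16 weights -/
def tabB : List ((Fin 7 → ℤ) × ℕ) :=
  [(![0, 0, 0, 0, 1, 0, 0], 0), (![0, 0, 0, 1, -1, 1, 0], 1), (![0, 1, 1, -1, 0, 1, 0], 2), (
    ![0, -1, 1, 0, 0, 1, 0], 3), (![1, 1, -1, 0, 0, 1, 0], 3), (![1, -1, -1, 1, 0, 1, 0], 4), (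
    ![-1, 1, 0, 0, 0, 1, 0], 4), (![-1, -1, 0, 1, 0, 1, 0], 5), (![1, 0, 0, -1, 1, 1, 0], 5), (
    ![-1, 0, 1, -1, 1, 1, 0], 6), (![1, 0, 0, 0, -1, 2, 0], 6), (![0, 0, -1, 0, 1, 1, 0], 7), (
    ![-1, 0, 1, 0, -1, 2, 0], 7), (![0, 0, -1, 1, -1, 2, 0], 8), (![0, 1, 0, -1, 0, 2, 0], 9), (
    ![0, -1, 0, 0, 0, 2, 0], 10)]

theorem tabA_ok : Tab (cartanOf chevE7 7) [0, 1, 2, 3, 4, 5] 5 tabA := Tab.of_check (by decide +kernel)

theorem tabB_ok : Tab (cartanOf chevE7 7) [0, 1, 2, 3, 4] 4 tabB := Tab.of_check (by decide +kernel)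

theorem path_a : PathOK CoxeterMatrix.E₇ [0, 1, 2, 3] [0, 2, 3, 1] [] 0 := by constructor <;> decide +kernel

theorem path_b : PathOK CoxeterMatrix.E₇ [0, 2, 3, 4, 5, 6] [0, 2, 3, 4, 5, 6] [] 0 := by
  constructor <;> decide +kernel

section Card

variable (K : Type u) [Field K] [Fintype K] (p : ℕ) [Fact p.Prime] [CharP K p]

/-- the parabolic subgroup of a list of nodes -/
abbrev P7 (J : List (Fin 7)) : Subgroup ↥(chevE7.group K) :=
  PJ CoxeterMatrix.E₇.toCoxeterSystem hpE7.isCartan (TT chevE7 K) (XX chevE7 7 K) {j | j ∈ J}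

/-- the Borel subgroup -/
abbrev B7 : Subgroup ↥(chevE7.group K) :=
  RGD.B CoxeterMatrix.E₇.toCoxeterSystem hpE7.isCartan (TT chevE7 K) (XX chevE7 7 K)

theorem rgdK : RGD CoxeterMatrix.E₇.toCoxeterSystem hpE7.isCartan p (TT chevE7 K)
    (fun i => (⟨nn hpE7 K i, nn_mem_group hpE7 i⟩ : ↥(chevE7.group K))) (XX chevE7 7 K) :=
  rgd (K := K) hpE7 CoxeterMatrix.E₇.toCoxeterSystem p

theorem size (i : Fin 7) : Nat.card (XX chevE7 7 K (sr i)) = Nat.card K := by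
  rw [card_XX hpE7 K CoxeterMatrix.E₇.toCoxeterSystem (isRoot_sr _ _ i)]

include p in
theorem card_a : Nat.card ↥(P7 K [0, 1, 2, 3, 4, 5]) = (tabA.map fun e => Nat.card K ^ e.2).sum *
    ((tabB.map fun e => Nat.card K ^ e.2).sum * (FA 4 (Nat.card K) * 1)) * Nat.card ↥(B7 K) := by
  have hfin := finite_W hpE7 CoxeterMatrix.E₇.toCoxeterSystem
  have R := rgdK K p
  exact card_tab_step R tabA_ok (fun i _ => size K i) (J' := [0, 1, 2, 3, 4]) (by decide +kernel)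
    (card_tab_step R tabB_ok (fun i _ => size K i) (J' := [0, 1, 2, 3]) (by decide +kernel)
      (card_step R path_a (fun i _ => size K i) (card_nil R)))

include p in
theorem card_b : Nat.card ↥(P7 K [0, 2, 3, 4, 5, 6]) = FA 6 (Nat.card K) * 1 * Nat.card ↥(B7 K) := by
  have hfin := finite_W hpE7 CoxeterMatrix.E₇.toCoxeterSystem
  have R := rgdK K p
  exact card_step R path_b (fun i _ => size K i) (card_nil R)

theorem sum_a (q : ℕ) : (tabA.map fun e => q ^ e.2).sum = (1 + q ^ 4 + q ^ 8) *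
    (1 + q + q ^ 2 + q ^ 3 + q ^ 4 + q ^ 5 + q ^ 6 + q ^ 7 + q ^ 8) := by
  simp only [tabA, List.map_cons, List.map_nil, List.sum_cons, List.sum_nil]
  ring

theorem sum_b (q : ℕ) : (tabB.map fun e => q ^ e.2).sum = (1 + q) * (1 + q ^ 2) * (1 + q ^ 3) * (1 + q ^ 4) := by
  simp only [tabB, List.map_cons, List.map_nil, List.sum_cons, List.sum_nil]
  ring

theorem fa_four (q : ℕ) : FA 4 q = (1 + q) * (1 + q + q ^ 2) * (1 + q + q ^ 2 + q ^ 3) *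
    (1 + q + q ^ 2 + q ^ 3 + q ^ 4) := by
  simp only [FA, Finset.prod_range_succ, Finset.prod_range_zero, Finset.sum_range_succ, Finset.sum_range_zero]
  ring

theorem fa_six (q : ℕ) : FA 6 q = (1 + q) * (1 + q + q ^ 2) * (1 + q + q ^ 2 + q ^ 3) *
    (1 + q + q ^ 2 + q ^ 3 + q ^ 4) * (1 + q + q ^ 2 + q ^ 3 + q ^ 4 + q ^ 5) *
    (1 + q + q ^ 2 + q ^ 3 + q ^ 4 + q ^ 5 + q ^ 6) := by
  simp only [FA, Finset.prod_range_succ, Finset.prod_range_zero, Finset.sum_range_succ, Finset.sum_range_zero]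
  ring

/-- primes dividing the order of the torus -/
theorem dvd_B {r : ℕ} (hr : r.Prime) (hr2 : r ≠ 2) (h : r ∣ Nat.card K - 1) : r ∣ Nat.card ↥(B7 K) := by
  have h1 := Cfsg.Agent.S1035.result (F := K) rfl (chevE7, Nat.gcd 2 (Fintype.card K - 1)) (by simp)
  rw [← Nat.card_eq_fintype_card] at h1
  have h2 : r ∣ Nat.gcd 2 (Nat.card K - 1) * Nat.card ↥(chevE7.diagonalSubgroup K) := by
    have h3 : r ∣ (Nat.card K - 1) ^ chevE7.rank := h.trans (dvd_pow_self _ (by decide))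
    rw [← h1] at h3
    exact h3
  rcases hr.dvd_mul.1 h2 with h3 | h3
  · exact absurd ((Nat.prime_dvd_prime_iff_eq hr Nat.prime_two).1 (h3.trans (Nat.gcd_dvd_left _ _))) hr2
  · have h4 : Nat.card (TT chevE7 K) = Nat.card (chevE7.diagonalSubgroup K) :=
      Nat.card_congr (Subgroup.subgroupOfEquivOfLe (Elts.diagonal_le_group hpE7.inList K)).toEquiv
    rw [← h4] at h3
    exact h3.trans (Subgroup.card_dvd_of_le RGD.T_le_B)

theorem dvd_nat {r a : ℕ} {b : ℤ} (h : (r : ℤ) ∣ b) (hb : b ∣ (a : ℤ)) : r ∣ a :=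
  Int.natCast_dvd_natCast.1 (h.trans hb)

include p in
/-- **primes dividing the order of the parabolic subgroup of type `E₆`** -/
theorem dvd_a {r : ℕ} (hr : r.Prime) (hr2 : r ≠ 2)
    (h : od (Nat.card K) r = 1 ∨ od (Nat.card K) r = 2 ∨ od (Nat.card K) r = 3 ∨ od (Nat.card K) r = 4 ∨
      od (Nat.card K) r = 5 ∨ od (Nat.card K) r = 6 ∨ od (Nat.card K) r = 8 ∨ od (Nat.card K) r = 9 ∨
      od (Nat.card K) r = 12) : r ∣ Nat.card ↥(P7 K [0, 1, 2, 3, 4, 5]) := by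
  rw [card_a K p, sum_a, sum_b, fa_four]
  rcases h with h | h
  · exact (dvd_B K hr hr2 (dvd_of_od_one Nat.card_pos h)).trans (Dvd.intro_left _ rfl)
  refine Dvd.dvd.mul_right ?_ _
  generalize Nat.card K = q at *
  rcases h with h | h | h | h | h | h | h | h
  · refine dvd_nat (CycTab.dvd2 hr h) ?_
    rw [CycTab.pv2]
    push_cast
    exact Dvd.dvd.mul_left (Dvd.dvd.mul_right (Dvd.dvd.mul_right (Dvd.dvd.mul_right (Dvd.dvd.mul_right
      (Dvd.intro 1 (by ring)) _) _) _) _) _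
  · refine dvd_nat (CycTab.dvd3 hr h) ?_
    rw [CycTab.pv3]
    push_cast
    exact Dvd.dvd.mul_left (Dvd.dvd.mul_left (Dvd.dvd.mul_right (Dvd.dvd.mul_right (Dvd.dvd.mul_right
      (Dvd.dvd.mul_left (Dvd.intro 1 (by ring)) _) _) _) _) _) _
  · refine dvd_nat (CycTab.dvd4 hr h) ?_
    rw [CycTab.pv4]
    push_cast
    exact Dvd.dvd.mul_left (Dvd.dvd.mul_right (Dvd.dvd.mul_right (Dvd.dvd.mul_right (Dvd.dvd.mul_left
      (Dvd.intro 1 (by ring)) _) _) _) _) _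
  · refine dvd_nat (CycTab.dvd5 hr h) ?_
    rw [CycTab.pv5]
    push_cast
    exact Dvd.dvd.mul_left (Dvd.dvd.mul_left (Dvd.dvd.mul_right (Dvd.dvd.mul_left (Dvd.intro 1 (by ring)) _) _) _) _
  · refine dvd_nat (CycTab.dvd6 hr h) ?_
    rw [CycTab.pv6]
    push_cast
    exact Dvd.dvd.mul_left (Dvd.dvd.mul_right (Dvd.dvd.mul_right (Dvd.dvd.mul_left
      (Dvd.intro ((q : ℤ) + 1) (by ring)) _) _) _) _
  · refine dvd_nat (CycTab.dvd8 hr h) ?_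
    rw [CycTab.pv8]
    push_cast
    exact Dvd.dvd.mul_left (Dvd.dvd.mul_right (Dvd.dvd.mul_left (Dvd.intro 1 (by ring)) _) _) _
  · refine dvd_nat (CycTab.dvd9 hr h) ?_
    rw [CycTab.pv9]
    push_cast
    exact Dvd.dvd.mul_right (Dvd.dvd.mul_left (Dvd.intro ((q : ℤ) ^ 2 + q + 1) (by ring)) _) _
  · refine dvd_nat (CycTab.dvd12 hr h) ?_
    rw [CycTab.pv12]
    push_cast
    exact Dvd.dvd.mul_right (Dvd.dvd.mul_right (Dvd.intro ((q : ℤ) ^ 4 + (q : ℤ) ^ 2 + 1) (by ring)) _) _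

include p in
/-- **primes dividing the order of the parabolic subgroup of type `A₆`** -/
theorem dvd_b {r : ℕ} (hr : r.Prime) (h : od (Nat.card K) r = 7) : r ∣ Nat.card ↥(P7 K [0, 2, 3, 4, 5, 6]) := by
  rw [card_b K p, fa_six]
  refine Dvd.dvd.mul_right (Dvd.dvd.mul_right ?_ _) _
  generalize Nat.card K = q at *
  refine dvd_nat (CycTab.dvd7 hr h) ?_
  rw [CycTab.pv7]
  push_cast
  exact Dvd.dvd.mul_left (Dvd.intro 1 (by ring)) _

end Card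

end Cfsg.Agent.H111.Fpf.SevenPar
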