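import Cfsg.Agent.H111.Fpf.SevenPar
import Cfsg.Agent.H111.Fpf.RadAb
import Cfsg.Agent.H120.ChevSys
import Cfsg.Agent.KFacts.RgdLieCharP
import Cfsg.Agent.KFacts.RgdFld.Fld
import Cfsg.Agent.S2106

/-!
# `E₇(q)`: the primes dividing `q` or the orders of the parabolic subgroups of type `E₆` and `A₆`
-/

set_option autoImplicit false
set_option linter.unusedSectionVars false

namespace Cfsg.Agent.H111.Fpf.SevenRad

open Cfsg CoxeterSystem Cfsg.Agent.ChevalleyStructure.CoxeterGeom Cfsg.Agent.Tits.Roots Cfsg.Agent.Tits.Core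
  Cfsg.Agent.Nodes.Reps Cfsg.Agent.Nodes.BNOf Cfsg.Agent.Nodes.StabComb Cfsg.Agent.Nodes.LeviDec Cfsg.Agent.H35.ExcIdx
  Cfsg.Agent.H134.StrP Cfsg.Agent.ChevalleyStructure Cfsg.Agent.ChevalleyStructure.CoxeterGeomTypes
  Cfsg.Agent.ChevalleyStructure.RootVecTab Cfsg.Agent.ChevalleyStructure.RootVec Cfsg.Agent.ChevalleyStructure.Elts
  Cfsg.Agent.Nodes.RGDChev Cfsg.Lie Cfsg.Agent.H378.ExcAdj Cfsg.Agent.H378 Cfsg.Agent.H111.Fpf.SevenPar
  Cfsg.Agent.BpLieP.Big Cfsg.Agent.H80.Fpf Cfsg.Agent.H233.Opp Cfsg.Agent.KFacts.RgdCharP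

universe u

section

variable (K : Type u) [Field K] [Fintype K] (p : ℕ) [Fact p.Prime] [CharP K p]

instance isSimple7 (K : Type u) [Field K] : IsSimpleGroup ↥(chevE7.group K) :=
  (Cfsg.Agent.S1054.result (F := K) chevE7 (by simp)).1

theorem nonab7 : ∃ a b : ↥(chevE7.group K), a * b ≠ b * a := by
  by_contra hcon
  push Not at hcon
  exact (Cfsg.Agent.S1054.result (F := K) chevE7 (by simp)).2 ⟨⟨hcon⟩⟩

theorem locChar : LocChar p ↥(chevE7.group K) := fun _ hA hA1 =>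
  (KFacts.RgdFiltChev.hasFilt_group hpE7 K p).local_char (nonab7 K) hA hA1

/-- the unipotent radical -/
abbrev V7 (J : List (Fin 7)) : Subgroup ↥(chevE7.group K) :=
  VJ CoxeterMatrix.E₇.toCoxeterSystem hpE7.isCartan (XX chevE7 7 K) {j | j ∈ J}

theorem h4_E7 : ∀ i j, CoxeterMatrix.E₇ i j ≠ 4 := by intro i; fin_cases i <;> decide

theorem h6_E7 : ∀ i j, CoxeterMatrix.E₇ i j ≠ 6 := by intro i; fin_cases i <;> decide

theorem coef_le : ∀ r < chevE7.nroots, rt chevE7 r 6 ≤ 1 := by decide +kernel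

theorem coef_le' {x : Fin 7 → ℤ} (hx : IsRoot CoxeterMatrix.E₇.toCoxeterSystem hpE7.isCartan x) : x 6 ≤ 1 := by
  obtain ⟨r, hr, rfl⟩ := (isRoot_iff hpE7 _ x).1 hx
  exact coef_le r hr

theorem pos6 {x : Fin 7 → ℤ} (hx : x ∈ NotJ CoxeterMatrix.E₇.toCoxeterSystem hpE7.isCartan
    {j | j ∈ ([0, 1, 2, 3, 4, 5] : List (Fin 7))}) : 0 < x 6 := by
  obtain ⟨-, -, k, hk, hk0⟩ := hx
  have h1 : ∀ j : Fin 7, j ∉ ([0, 1, 2, 3, 4, 5] : List (Fin 7)) → j = 6 := by decide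
  have : k = 6 := h1 k hk
  rwa [← this]

/-- **the unipotent radical of the parabolic subgroup of type `E₆` is abelian** -/
theorem comm_V7 : ∀ a ∈ V7 K [0, 1, 2, 3, 4, 5], ∀ b ∈ V7 K [0, 1, 2, 3, 4, 5], a * b = b * a := by
  obtain ⟨p, hpc⟩ := CharP.exists K
  have : Fact p.Prime := ⟨CharP.char_is_prime K p⟩
  have hfin := finite_W hpE7 CoxeterMatrix.E₇.toCoxeterSystem
  have R := rgdK K p
  have hs : KFacts.RgdSL.SL CoxeterMatrix.E₇.toCoxeterSystem hpE7.isCartan := fun _ _ hx hy =>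
    Nodes.SimplyLaced.cpr_symm _ hpE7.isCartan h4_E7 h6_E7 hx hy
  have key : ∀ x ∈ NotJ CoxeterMatrix.E₇.toCoxeterSystem hpE7.isCartan {j | j ∈ ([0, 1, 2, 3, 4, 5] : List (Fin 7))},
      ∀ y ∈ NotJ CoxeterMatrix.E₇.toCoxeterSystem hpE7.isCartan {j | j ∈ ([0, 1, 2, 3, 4, 5] : List (Fin 7))},
      ∀ a ∈ XX chevE7 7 K x, ∀ b ∈ XX chevE7 7 K y, a * b = b * a := by
    intro x hx y hy a ha b hb
    by_cases hxy : x = y
    · subst hxy
      obtain ⟨r, hr, rfl⟩ := (isRoot_iff hpE7 _ x).1 hx.1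
      have ha' : (a : GL chevE7.Idx K) ∈ chevE7.rootSubgroup K r := by rw [← XV_vec hpE7 K hr]; exact ha
      have hb' : (b : GL chevE7.Idx K) ∈ chevE7.rootSubgroup K r := by rw [← XV_vec hpE7 K hr]; exact hb
      obtain ⟨t, ht⟩ := (mem_rootSubgroup_iff hpE7.inList r _).1 ha'
      obtain ⟨u, hu⟩ := (mem_rootSubgroup_iff hpE7.inList r _).1 hb'
      apply Subtype.ext
      show (a : GL chevE7.Idx K) * b = b * a
      rw [ht, hu, xG_add, xG_add, add_comm]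
    · have hxp : x ∈ RGD.Pos CoxeterMatrix.E₇.toCoxeterSystem hpE7.isCartan := ⟨hx.1, hx.2.1⟩
      have hyp : y ∈ RGD.Pos CoxeterMatrix.E₇.toCoxeterSystem hpE7.isCartan := ⟨hy.1, hy.2.1⟩
      have h1 := Nodes.PairOf.comm_of_no_btwn R hx.1 hy.1 hxy (KFacts.RgdFld.Layer.ne_neg_of_pos hxp hyp) (fun z hz => by
        rcases KFacts.RgdFld.Layer.btwn_pos hs hxp hyp hz with ⟨h, -⟩ | ⟨-, -, rfl⟩
        · exact hxy h
        · have h2 := coef_le' hz.1
          have h3 := pos6 hx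
          have h4 := pos6 hy
          rw [Pi.add_apply] at h2
          omega) a ha b hb
      exact commutatorElement_eq_one_iff_mul_comm.1 h1
  have h1 : V7 K [0, 1, 2, 3, 4, 5] ≤ Subgroup.centralizer (V7 K [0, 1, 2, 3, 4, 5] : Set ↥(chevE7.group K)) := by
    refine RGD.Sup_le fun x hx => ?_
    rw [Subgroup.le_centralizer_iff]
    refine RGD.Sup_le fun y hy => ?_
    intro b hb
    rw [Subgroup.mem_centralizer_iff]
    intro a ha
    exact key x hx y hy a ha b hb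
  intro a ha b hb
  exact Subgroup.mem_centralizer_iff.1 (h1 hb) a ha

end

section Excl

variable (F : Type) [Field F] [Fintype F]

theorem p_dvd (p : ℕ) [Fact p.Prime] [CharP F p] : p ∣ Nat.card F := by
  obtain ⟨n, -, hn⟩ := FiniteField.card F p
  rw [Nat.card_eq_fintype_card, hn]
  exact dvd_pow_self p n.ne_zero

theorem multDvd : MultDvd ↥(chevE7.group F) (Nat.gcd 2 (Nat.card F - 1)) := by
  rw [Nat.card_eq_fintype_card]
  exact multDvd_of_cyclic (Nat.gcd_pos_of_pos_left _ (by norm_num)).ne' (Cfsg.Agent.S2106.result (F := F) rfl)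

theorem not_dvd_mult (p : ℕ) [hp : Fact p.Prime] [CharP F p] : ¬ p ∣ Nat.gcd 2 (Nat.card F - 1) := by
  intro h
  have h1 := p_dvd F p
  have h2 := h.trans (Nat.gcd_dvd_right _ _)
  have h3 : 0 < Nat.card F := Nat.card_pos
  have h4 : p ∣ 1 := by
    have h5 := Nat.dvd_sub h1 h2
    rwa [Nat.sub_sub_self h3] at h5
  exact hp.out.one_lt.ne' (Nat.dvd_one.1 h4)

/-- **primes dividing the order of the parabolic subgroup of type `E₆`** -/
theorem not_may_a {r : ℕ} (hr : r.Prime) (hr2 : r ≠ 2) (hrq : ¬ r ∣ Nat.card F)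
    (h : r ∣ Nat.card ↥(P7 F [0, 1, 2, 3, 4, 5])) : ¬ May r ↥(chevE7.group F) := by
  obtain ⟨p, hpc⟩ := CharP.exists F
  have hp : Fact p.Prime := ⟨CharP.char_is_prime F p⟩
  have hfin := finite_W hpE7 CoxeterMatrix.E₇.toCoxeterSystem
  have R := rgdK F p
  have hG := GG_eq_top hpE7 F CoxeterMatrix.E₇.toCoxeterSystem
  refine not_may_of_rad (V := V7 F [0, 1, 2, 3, 4, 5]) hr hr2 hp.out ?_ (multDvd F) (not_dvd_mult F p) (locChar F p)
    (rad_VJ R hG _) ?_ (comm_V7 F) ?_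
  · rintro rfl
    exact hrq (p_dvd F p)
  · exact VJ_ne_bot R ⟨6, by decide⟩
  · rw [normalizer_VJ_eq R hG]
    exact h

/-- **primes dividing the order of the parabolic subgroup of type `A₆`** -/
theorem not_may_b {r : ℕ} (hr : r.Prime) (hr2 : r ≠ 2) (hrq : ¬ r ∣ Nat.card F) (hgood : ∀ l : ℕ, l.Prime → Good l r)
    (h : r ∣ Nat.card ↥(P7 F [0, 2, 3, 4, 5, 6])) : ¬ May r ↥(chevE7.group F) := by
  obtain ⟨p, hpc⟩ := CharP.exists F
  have hp : Fact p.Prime := ⟨CharP.char_is_prime F p⟩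
  have hfin := finite_W hpE7 CoxeterMatrix.E₇.toCoxeterSystem
  have R := rgdK F p
  have hG := GG_eq_top hpE7 F CoxeterMatrix.E₇.toCoxeterSystem
  refine not_may_of_dvd_normalizer (K := V7 F [0, 2, 3, 4, 5, 6]) hr hr2 hp.out ?_ (hgood p hp.out) (locChar F p)
    (isPGroup_VJ R _) ?_ ?_
  · rintro rfl
    exact hrq (p_dvd F p)
  · exact VJ_ne_bot R ⟨1, by decide⟩
  · rw [normalizer_VJ_eq R hG]
    exact h

/-- if `r - 1` has an odd prime divisor -/
theorem good_all {r s : ℕ} (hr : r.Prime) (hr2 : r ≠ 2) (hs : s.Prime) (hs2 : s ≠ 2) (h : s ∣ r - 1) (l : ℕ)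
    (hl : l.Prime) : Good l r := by
  by_cases hl2 : l = 2
  · rw [hl2]
    exact good_two_of_dvd hs hs2 h
  · exact good_of_odd hl hl2 hr hr2

/-- the order of `q` modulo `r` divides `r - 1` -/
theorem od_dvd_sub {q r n : ℕ} (hr : r.Prime) (hn : n ≠ 0) (h : od q r = n) : n ∣ r - 1 := by
  have : Fact r.Prime := ⟨hr⟩
  rw [← h, od]
  apply orderOf_dvd_of_pow_eq_one
  apply ZMod.pow_card_sub_one_eq_one
  intro h0
  rw [od, h0] at h
  have h1 : orderOf (0 : ZMod r) = 0 := by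
    rw [orderOf_eq_zero_iff']
    intro k hk
    rw [zero_pow hk.ne']
    exact zero_ne_one
  rw [h1] at h
  exact hn h.symm

/-- **the defining characteristic** -/
theorem not_may_char {r : ℕ} (hr : r.Prime) (hr2 : r ≠ 2) (hrq : r ∣ Nat.card F) : ¬ May r ↥(chevE7.group F) := by
  intro h
  obtain ⟨p, hpc⟩ := CharP.exists F
  have hp : Fact p.Prime := ⟨CharP.char_is_prime F p⟩
  have hrp : r = p := by
    obtain ⟨n, -, hn⟩ := FiniteField.card F p
    rw [Nat.card_eq_fintype_card, hn] at hrq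
    exact (Nat.prime_dvd_prime_iff_eq hr hp.out).1 (hr.dvd_of_dvd_pow hrq)
  subst hrp
  have hfin := finite_W hpE7 CoxeterMatrix.E₇.toCoxeterSystem
  have R := rgdK F r
  have hc := h.isCyclic hr hr2 _ R.isPGroup_Upos
  let U := RGD.Sup (XX chevE7 7 F) (RGD.Pos CoxeterMatrix.E₇.toCoxeterSystem hpE7.isCartan)
  have hU : ∀ i : Fin 7, H120.ChevSys.XX KFacts.En.Roots.ty_E7 (sr i) (1 : F) ∈ U := by
    intro i
    have h1 : XX chevE7 7 F (sr i) ≤ U := RGD.le_Sup ⟨isRoot_sr _ _ i, sr_nonneg i⟩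
    apply h1
    rw [Subgroup.mem_subgroupOf]
    show H120.ChevSys.XG KFacts.En.Roots.ty_E7 (sr i) (1 : F) ∈ XV chevE7 7 F (sr i)
    have hlt0 : ∀ i : Fin 7, chevE7.simple i < chevE7.nroots := by decide +kernel
    have hlt := hlt0 i
    rw [← vec_simple hpE7 i, XV_vec hpE7 F hlt, H120.ChevSys.XG_vec _ hlt]
    exact xG_mem_rootSubgroup _ _ _
  have hcm : ∀ a b : U, a * b = b * a := by
    have := hc.isMulCommutative
    exact fun a b => this.is_comm.comm a b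
  have h1 := hcm ⟨_, hU 0⟩ ⟨_, hU 2⟩
  have h2 : H120.ChevSys.XG KFacts.En.Roots.ty_E7 (sr 0) (1 : F) * H120.ChevSys.XG KFacts.En.Roots.ty_E7 (sr 2) (1 : F) =
      H120.ChevSys.XG KFacts.En.Roots.ty_E7 (sr 2) (1 : F) * H120.ChevSys.XG KFacts.En.Roots.ty_E7 (sr 0) (1 : F) :=
    congrArg (fun z : U => (((z : U) : ↥(chevE7.group F)) : GL chevE7.Idx F)) h1
  have hb : KFacts.En.Roots.bf chevE7 7 (sr 0) (sr 2) = -1 := by
    rw [KFacts.En.Roots.bf_sr_left]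
    decide +kernel
  have m0 := KFacts.En.Roots.sr_mem hpE7 0
  have m2 := KFacts.En.Roots.sr_mem hpE7 2
  obtain ⟨ε, hε, h3⟩ := H120.ChevSys.comm1 (F := F) KFacts.En.Roots.ty_E7 m0 m2 hb
  have h4 := h3 1 1
  rw [h2, mul_assoc] at h4
  have h5 := (right_eq_mul.1 h4)
  obtain ⟨s, hs, hse⟩ := KFacts.En.Roots.add_mem KFacts.En.Roots.ty_E7 m0 m2 hb
  rw [← hse, H120.ChevSys.XG_vec _ hs, ← xG_zero KFacts.En.Roots.ty_E7.ty.inList s] at h5
  have h6 := xG_injective _ hs h5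
  rw [mul_one, mul_one] at h6
  rcases hε with h7 | h7 <;> rw [h7] at h6 <;> simp at h6

end Excl

end Cfsg.Agent.H111.Fpf.SevenRad
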